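import Mathlib

/-!
# The maps `t ↦ t * σ t` (helper340), S4327

`sq_mem` : `σ` of odd order: every square is of the form `t * σ t`;
`norm_surj` : `σ ∘ σ = 1`, `σ ≠ 1`: every fixed element is of this form.
-/

set_option autoImplicit false

namespace Cfsg.Agent.H340.Gs

variable {F : Type*} [Field F]

/-- `t ↦ t * σ t` -/
def nm (σ : F →+* F) : Fˣ →* Fˣ where
  toFun t := t * Units.map σ t
  map_one' := by simp
  map_mul' a b := by rw [map_mul]; exact mul_mul_mul_comm _ _ _ _

theorem nm_val (σ : F →+* F) (t : Fˣ) : ((nm σ t : Fˣ) : F) = t * σ t := rfl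

/-- `σ` of odd order: every square is of the form `t * σ t` -/
theorem sq_mem [Finite F] {σ : F →+* F} {m : ℕ} (hm : Odd m) (hσ : ∀ y, σ^[m] y = y) {y : F} (hy : y ≠ 0) :
    ∃ t : F, t ≠ 0 ∧ t * σ t = y * y := by
  classical
  have hfin : Finite Fˣ := inferInstance
  have hker : ∀ t : Fˣ, nm σ t = 1 → (t : F) * t = 1 := by
    intro t ht
    have h1 : (t : F) * σ t = 1 := by rw [← nm_val, ht, Units.val_one]
    have h2 : σ (t : F) = (t : F)⁻¹ := eq_inv_of_mul_eq_one_right h1
    have h3 : ∀ k : ℕ, σ^[2 * k] (t : F) = t := by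
      intro k
      induction k with
      | zero => rfl
      | succ k ih =>
        rw [mul_add, mul_one, Function.iterate_add_apply]
        have h4 : σ^[2] (t : F) = t := by
          change σ (σ (t : F)) = t
          rw [h2, map_inv₀, h2, inv_inv]
        rw [h4, ih]
    obtain ⟨k, rfl⟩ := hm
    have h5 := hσ t
    rw [add_comm, Function.iterate_add_apply, h3] at h5
    have h6 : σ (t : F) = t := h5
    rwa [h6] at h1
  have hcard : Nat.card (nm σ).ker ≤ 2 := by
    have h1 : Nat.card (nm σ).ker ≤ Nat.card (({1, -1} : Set Fˣ)) := by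
      apply Nat.card_mono (Set.toFinite _)
      intro t ht
      have h2 := hker t ht
      have h3 : ((t : F) - 1) * ((t : F) + 1) = 0 := by linear_combination h2
      rcases mul_eq_zero.1 h3 with h4 | h4
      · left
        ext
        rw [Units.val_one]
        exact sub_eq_zero.1 h4
      · right
        rw [Set.mem_singleton_iff]
        ext
        rw [Units.val_neg, Units.val_one]
        exact eq_neg_of_add_eq_zero_left h4
    refine h1.trans ?_
    rw [Nat.card_coe_set_eq]
    exact Set.ncard_insert_le _ _ |>.trans (by rw [Set.ncard_singleton])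
  have hidx : (nm σ).range.index = Nat.card (nm σ).ker := by
    have h1 := (nm σ).range.card_mul_index
    have h2 := (nm σ).ker.card_mul_index
    rw [Subgroup.index_ker] at h2
    have h3 : 0 < Nat.card (nm σ).range := Nat.card_pos
    apply Nat.eq_of_mul_eq_mul_left h3
    rw [h1, mul_comm, h2]
  have hmem : (Units.mk0 y hy) ^ 2 ∈ (nm σ).range := by
    have h0 : 0 < Nat.card (nm σ).ker := Nat.card_pos
    rcases Nat.lt_or_ge (Nat.card (nm σ).ker) 2 with h1 | h1
    · have h2 : (nm σ).range.index = 1 := by omega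
      rw [Subgroup.index_eq_one] at h2
      rw [h2]
      trivial
    · have h2 : (nm σ).range.index = 2 := by omega
      exact Subgroup.sq_mem_of_index_two h2 _
  obtain ⟨t, ht⟩ := hmem
  refine ⟨t, t.ne_zero, ?_⟩
  rw [← nm_val, ht]
  simp [pow_two]

/-- `σ` of order two: every fixed element is a norm -/
theorem norm_surj [Finite F] {σ : F →+* F} (hne : σ ≠ RingHom.id F) (hσ : ∀ y, σ (σ y) = y) {y : F} (hy : y ≠ 0)
    (hfix : σ y = y) : ∃ t : F, t ≠ 0 ∧ t * σ t = y := by
  classical
  have hfin : Finite Fˣ := inferInstance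
  -- the group of the fixed units
  let ρ : Fˣ →* Fˣ :=
    { toFun := fun t => t * (Units.map (σ : F →* F) t)⁻¹
      map_one' := by simp
      map_mul' := fun a b => by rw [map_mul, mul_inv]; exact mul_mul_mul_comm _ _ _ _ }
  have hρ : ∀ t : Fˣ, ((ρ t : Fˣ) : F) = t * (σ t)⁻¹ := fun t => by
    change ((t * (Units.map (σ : F →* F) t)⁻¹ : Fˣ) : F) = _
    rw [Units.val_mul, Units.val_inv_eq_inv_val]
    rfl
  have h90 : (nm σ).ker ≤ ρ.range := by
    intro t ht
    have h1 : (t : F) * σ t = 1 := by rw [← nm_val, (show nm σ t = 1 from ht), Units.val_one]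
    by_cases h2 : (1 : F) + t = 0
    · -- t = -1
      obtain ⟨b, hb⟩ : ∃ b, σ b ≠ b := by
        by_contra hcon
        push Not at hcon
        exact hne (RingHom.ext hcon)
      have h3 : b - σ b ≠ 0 := fun h => hb (sub_eq_zero.1 h).symm
      refine ⟨Units.mk0 _ h3, ?_⟩
      ext
      rw [hρ, Units.val_mk0, map_sub, hσ, ← neg_sub b (σ b), inv_neg, mul_neg, mul_inv_cancel₀ h3]
      linear_combination -h2
    · refine ⟨Units.mk0 _ h2, ?_⟩
      ext
      rw [hρ, Units.val_mk0, map_add, map_one]
      have h4 : (1 : F) + σ t ≠ 0 := by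
        intro h
        apply h2
        have h5 := congrArg σ h
        rw [map_add, map_one, hσ, map_zero] at h5
        exact h5
      rw [← div_eq_mul_inv, div_eq_iff h4]
      linear_combination -h1
  have hle : (nm σ).range ≤ ρ.ker := by
    rintro _ ⟨t, rfl⟩
    rw [MonoidHom.mem_ker]
    ext
    rw [hρ, nm_val, map_mul, hσ, Units.val_one, mul_comm (σ (t : F))]
    exact mul_inv_cancel₀ (mul_ne_zero t.ne_zero ((map_ne_zero σ).2 t.ne_zero))
  have heq : (nm σ).range = ρ.ker := by
    apply Subgroup.eq_of_le_of_card_ge hle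
    have h1 := (nm σ).ker.card_mul_index
    have h2 := ρ.ker.card_mul_index
    rw [Subgroup.index_ker] at h1 h2
    have h3 : Nat.card (nm σ).ker ≤ Nat.card ρ.range := Nat.card_mono (Set.toFinite _) h90
    have h4 : 0 < Nat.card (nm σ).ker := Nat.card_pos
    by_contra hlt
    push Not at hlt
    have h5 : Nat.card ρ.range * Nat.card (nm σ).range < Nat.card ρ.range * Nat.card ρ.ker :=
      Nat.mul_lt_mul_of_pos_left hlt Nat.card_pos
    have h6 : Nat.card (nm σ).ker * Nat.card (nm σ).range ≤ Nat.card ρ.range * Nat.card (nm σ).range :=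
      Nat.mul_le_mul_right _ h3
    rw [h1] at h6
    rw [mul_comm (Nat.card ρ.range) (Nat.card ρ.ker), h2] at h5
    exact absurd h6 (not_le.2 h5)
  have hmem : Units.mk0 y hy ∈ (nm σ).range := by
    rw [heq, MonoidHom.mem_ker]
    ext
    rw [hρ, Units.val_mk0, hfix, Units.val_one]
    exact mul_inv_cancel₀ hy
  obtain ⟨t, ht⟩ := hmem
  refine ⟨t, t.ne_zero, ?_⟩
  rw [← nm_val, ht, Units.val_mk0]

end Cfsg.Agent.H340.Gs
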